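import Cfsg.Agent.Lib.Spor.Suz.G2FourOrbit
import Cfsg.Agent.Lib.Chev.G2J2.Stabilizer
import Cfsg.Agent.Lib.Chev.Simple

/-!
The subgroup of index 1782 of the presented Suzuki group is isomorphic to the group of type G2 over
four elements: both act faithfully on 416 points with the same image.
-/

set_option autoImplicit false

namespace CfsgLib.Spor.Suz.G2Four

open CfsgLib.PresCert CfsgLib.G2J2 Cfsg.Spor Cfsg.Lie CfsgLib.Chev

/-- the point of the orbit attached to a set -/
noncomputable def point (k : Fin 416) : Fin Perm.data.n :=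
  ⟨emb k, by
    have h := of_allB emb_ok k.val k.isLt
    simp only [Bool.and_eq_true, Nat.blt_eq] at h
    exact h.1⟩

theorem point_inj : Function.Injective point := by
  intro i j e
  have e' : emb i.val = emb j.val := congrArg Fin.val e
  have key : ∀ a b : Fin 416, a.val < b.val → emb a.val ≠ emb b.val := fun a b hab he => by
    have h := of_allB emb_ok b.val b.isLt
    simp only [Bool.and_eq_true] at h
    have := of_allB h.2 a.val hab
    simp [he] at this
  rcases Nat.lt_trichotomy i.val j.val with hl | hl | hl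
  exacts [absurd e' (key i j hl), Fin.ext hl, absurd e'.symm (key j i hl)]

/-- the six letters -/
def letters : List Suz.Gen := [.a, .b, .c, .d, .e, .f]

theorem gen_mem_H {x : Suz.Gen} (hx : x ∈ letters) : gen x ∈ H :=
  Subgroup.subset_closure ⟨x, hx, rfl⟩

theorem H_top : Subgroup.closure {h : ↥H | ∃ x ∈ letters, (h : Cfsg.Spor.Suz) = gen x} = ⊤ := by
  refine Subgroup.map_injective H.subtype_injective ?_
  rw [MonoidHom.map_closure, ← MonoidHom.range_eq_map, Subgroup.range_subtype]
  conv_rhs => rw [H, lettersGroup]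
  refine congrArg _ (Set.ext fun g => ?_)
  constructor
  · rintro ⟨h, ⟨x, hx, e⟩, rfl⟩; exact ⟨x, hx, e.symm⟩
  · rintro ⟨x, hx, rfl⟩; exact ⟨⟨gen x, gen_mem_H hx⟩, ⟨x, hx, rfl⟩, rfl⟩

theorem orbit_inv : ∀ (h : ↥H) (k : Fin 416), ∃ j, (π.comp H.subtype) h (point k) = point j := by
  refine exists_image _ point_inj H_top ?_
  rintro h ⟨x, hx, e⟩ k
  have h6 : idx x < 6 := by fin_cases hx <;> decide
  have hk := of_allB (of_allB let_ok (idx x) h6) k.val k.isLt
  simp only [Bool.and_eq_true, Nat.blt_eq] at hk
  refine ⟨⟨_, hk.2⟩, Fin.ext ?_⟩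
  show (π (h : Cfsg.Spor.Suz) (point k)).val = emb _
  rw [e, π_gen]
  exact Nat.eq_of_beq_eq_true hk.1

/-- the action on the orbit -/
noncomputable def orbitHom : ↥H →* Equiv.Perm (Fin 416) := indHom (π.comp H.subtype) point_inj orbit_inv

/-- the letter of an index -/
def letter (k : ℕ) : Suz.Gen := letters.getD k .a

theorem letter_mem (k : ℕ) : letter k ∈ letters := by
  by_cases h : k < letters.length
  · rw [letter, List.getD_eq_getElem _ _ h]; exact List.getElem_mem h
  · rw [letter, List.getD_eq_default _ _ (not_lt.1 h)]; simp [letters]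

theorem idx_letter {k : ℕ} (h : k < 6) : idx (letter k) = k := by
  interval_cases k <;> rfl

/-- the element of a word, whose first letter acts first -/
noncomputable def wElt : List ℕ → ↥H
  | [] => 1
  | k :: w => wElt w * ⟨gen (letter k), gen_mem_H (letter_mem k)⟩

theorem π_wElt : ∀ (w : List ℕ), (∀ k ∈ w, k < 6) → ∀ i : Fin Perm.data.n,
    (π (wElt w : Cfsg.Spor.Suz) i).val = Perm.data.app w i.val
  | [], _, i => by simp [wElt, PermData.app]
  | k :: w, hw, i => by
    rw [wElt, Subgroup.coe_mul, map_mul, Equiv.Perm.mul_apply,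
      π_wElt w fun b hb => hw b (List.mem_cons_of_mem _ hb), π_gen,
      idx_letter (hw k List.mem_cons_self)]
    rfl

variable {K : Type*} [Field K] [Fintype K] [hq : Four K]

theorem setHom_injective : Function.Injective (setHom (F := K)) := by
  haveI : IsSimpleGroup ↥(chevG2.group K) :=
    (simple_group stdG2 (by decide +kernel) conn_G2 (perfect_of_perfB stdG2 perfB_G2
      ⟨hq.omega, omega_ne_zero, omega_ne_one⟩)).1
  rw [← MonoidHom.ker_eq_bot_iff]
  rcases Subgroup.Normal.eq_bot_or_eq_top (inferInstance : (setHom (F := K)).ker.Normal) with h | h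
  · exact h
  · exfalso
    obtain ⟨g, hg⟩ := CfsgLib.G2J2.transitive (F := K) ⟨(zS.val + 1) % 416, Nat.mod_lt _ (by norm_num)⟩
    have hk : g ∈ (setHom (F := K)).ker := h ▸ Subgroup.mem_top g
    rw [MonoidHom.mem_ker] at hk
    rw [hk, Equiv.Perm.one_apply] at hg
    have := congrArg Fin.val hg
    simp only at this
    omega

theorem setHom_range_le : (setHom (F := K)).range ≤ orbitHom.range := by
  rw [MonoidHom.range_eq_map, ← gen_top, MonoidHom.map_closure, Subgroup.closure_le]
  rintro _ ⟨_, ⟨g, rfl⟩, rfl⟩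
  set w := G2FourData.genWord.getD g.val [] with hw'
  have hw : ∀ k ∈ w, k < 6 := by
    intro k hk
    by_cases hl : g.val < G2FourData.genWord.length
    · rw [hw', List.getD_eq_getElem _ _ hl] at hk
      simpa using List.all_eq_true.1 (List.all_eq_true.1 word_small _ (List.getElem_mem hl)) k hk
    · rw [hw', List.getD_eq_default _ _ (not_lt.1 hl)] at hk
      simp at hk
  refine ⟨wElt w, Equiv.ext fun k => ?_⟩
  refine indHom_eq _ _ _ (Fin.ext ?_)
  show (π (wElt w : Cfsg.Spor.Suz) (point k)).val = emb (setHom (genG g) k).val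
  rw [π_wElt w hw, setHom_gen]
  exact Nat.eq_of_beq_eq_true (of_allB (of_allB word_ok g.val g.isLt) k.val k.isLt)

variable (K) in
theorem h_equiv : Nonempty (↥H ≃* ↥(chevG2.group K)) := by
  haveI : Finite ↥H := Nat.finite_of_card_ne_zero (by rw [card_H]; norm_num)
  haveI : Finite ↥(chevG2.group K) := Nat.finite_of_card_ne_zero (by rw [card_group K]; norm_num)
  have hS : Nat.card ↥(setHom (F := K)).range = 251596800 := by
    rw [← Nat.card_congr (MonoidHom.ofInjective setHom_injective).toEquiv, card_group K]
  have hle : Nat.card ↥orbitHom.range ≤ 251596800 := by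
    rw [← card_H]; exact Nat.card_le_card_of_surjective _ orbitHom.rangeRestrict_surjective
  have heq : (setHom (F := K)).range = orbitHom.range :=
    Subgroup.eq_of_le_of_card_ge setHom_range_le (by rw [hS]; exact hle)
  have hbij : Function.Bijective orbitHom.rangeRestrict :=
    (Nat.bijective_iff_surjective_and_card _).2
      ⟨orbitHom.rangeRestrict_surjective, by rw [card_H, ← heq, hS]⟩
  exact ⟨(MulEquiv.ofBijective _ hbij).trans ((MulEquiv.subgroupCongr heq.symm).trans
    (MonoidHom.ofInjective setHom_injective).symm)⟩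

omit hq in
theorem exists_equiv : ∃ (K : Type) (_ : Field K) (_ : Fintype K), Fintype.card K = 4 ∧
    Nonempty (↥H ≃* ↥(chevG2.group K)) := by
  letI : Fintype (GaloisField 2 2) := Fintype.ofFinite _
  have hc : Fintype.card (GaloisField 2 2) = 4 := by
    rw [← Nat.card_eq_fintype_card, GaloisField.card 2 2 (by norm_num)]
    norm_num
  obtain ⟨hq⟩ := exists_four hc
  exact ⟨_, _, _, hc, h_equiv _⟩

end CfsgLib.Spor.Suz.G2Four
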