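import Cfsg.Agent.Lib.Spor.Suz.PermData
import Cfsg.Agent.Lib.Spor.Suz.ElevenData

/-!
Checks on the two elements of order eleven.
-/

namespace CfsgLib.Spor.Suz

open CfsgLib.PresCert

theorem eleven_u : allBelow 1782 (fun i =>
    Nat.beq (Perm.data.app [5, 4, 3, 2, 6, 1] i) (elevenData.img 0 i) &&
      Nat.beq (Perm.data.app [0] (elevenData.img 0 i)) (elevenData.img 1 i)) = true := by
  decide +kernel

theorem eleven_pow : allBelow 1782 (fun i =>
    Nat.beq (elevenData.app (List.replicate 11 0) i) i &&
      Nat.beq (elevenData.app (List.replicate 11 1) i) i) = true := by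
  decide +kernel

end CfsgLib.Spor.Suz
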