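import Cfsg.Agent.Lib.Spor.Suz.Orbits
import Cfsg.Agent.Lib.Spor.Suz.Eleven
import Cfsg.Agent.Lib.PresCert.Simple
import Cfsg.Prelude.Def_Sporadic

/-!
The presented Suzuki group is simple.
-/

namespace CfsgLib.Spor.Suz

open CfsgLib.PresCert Cfsg.Spor

theorem cox {x y : Suz.Gen} : (gen x * gen y) ^ coxLabel Suz.edges x y = 1 :=
  pgen_cox (mem_nodes x) (mem_nodes y)

theorem word_one (w : List Suz.Gen) (h : w ∈ extraW) : (w.map gen).prod = 1 :=
  gen_known w (List.mem_append_right _ h)

/-- A normal subgroup containing `a` is everything. -/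
theorem eq_top_of_a_mem (N : Subgroup Cfsg.Spor.Suz) (hN : N.Normal) (ha : gen .a ∈ N) :
    N = ⊤ := by
  haveI := hN
  let q : Cfsg.Spor.Suz →* Cfsg.Spor.Suz ⧸ N := QuotientGroup.mk' N
  have hsq : ∀ x, q (gen x) * q (gen x) = 1 := fun x => by rw [← map_mul, gen_sq, map_one]
  -- joined by an odd edge: one is trivial if the other is
  have odd : ∀ x y : Suz.Gen, ∀ m, coxLabel Suz.edges x y = 2 * m + 1 → q (gen x) = 1 →
      q (gen y) = 1 := by
    intro x y m hm hx
    have h := congrArg q (cox (x := x) (y := y))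
    rw [map_pow, map_mul, map_one, hx, one_mul, hm, pow_succ, pow_mul, pow_two, hsq, one_pow,
      one_mul] at h
    exact h
  have qa : q (gen .a) = 1 := (QuotientGroup.eq_one_iff _).2 ha
  have qb := odd .a .b 2 (by decide) qa
  have qc := odd .b .c 1 (by decide) qb
  have qf := odd .b .f 1 (by decide) qb
  have qg := odd .b .g 1 (by decide) qb
  have qe : q (gen .e) = 1 := by
    have h := congrArg q (word_one _ (List.mem_cons_of_mem _ (List.mem_cons_of_mem _
      (List.mem_cons_of_mem _ (List.mem_cons_of_mem _ (List.mem_cons_self ..))))))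
    simp only [List.replicate_succ, List.replicate_zero, List.flatten_cons, List.flatten_nil,
      List.append_nil, List.cons_append, List.nil_append, List.map_cons, List.map_nil,
      List.prod_cons, List.prod_nil, map_mul, map_one, qb, qc, one_mul, mul_one] at h
    have hd : ∀ z, q (gen .d) * (q (gen .d) * z) = z := fun z => by
      rw [← mul_assoc, hsq, one_mul]
    have he : ∀ z, q (gen .e) * (q (gen .e) * z) = z := fun z => by
      rw [← mul_assoc, hsq, one_mul]
    simpa [hd, he, hsq] using h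
  have qd := odd .e .d 1 (by decide) qe
  have hall : ∀ x, gen x ∈ N := by
    intro x
    refine (QuotientGroup.eq_one_iff _).1 ?_
    cases x
    exacts [qa, qb, qc, qd, qe, qf, qg]
  rw [eq_top_iff, ← top_eq_lettersGroup (edges := Suz.edges) (extra := Suz.extra) allGens
    mem_allGens, lettersGroup, Subgroup.closure_le]
  rintro _ ⟨x, -, rfl⟩
  exact hall x

theorem exists_gen (k : ℕ) (hk : k < Perm.data.g) : ∃ x, idx x = k := by
  have hk' : k < 7 := hk
  interval_cases k
  exacts [⟨.a, rfl⟩, ⟨.b, rfl⟩, ⟨.c, rfl⟩, ⟨.d, rfl⟩, ⟨.e, rfl⟩, ⟨.f, rfl⟩, ⟨.g, rfl⟩]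

theorem π_injective : Function.Injective π := by
  haveI := finite
  have hlow : Nat.card Cfsg.Spor.Suz ≤ Nat.card π.range := by
    have h := PermData.le_card_of_hom (D := Perm.data) (⊤ : Subgroup π.range) π.range.subtype
      (fun k hk => ?_) words_ok Perm.levels levels_ok
    · have e : (Perm.levels.map Level.len).prod = 448345497600 := by decide +kernel
      rw [e, Subgroup.card_top] at h
      rw [natCard]
      exact h
    · obtain ⟨x, hx⟩ := exists_gen k hk
      exact ⟨π.rangeRestrict (gen x), trivial, fun i => hx ▸ π_gen x i⟩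
  exact (Subtype.val_injective).comp ((Nat.bijective_iff_surjective_and_card π.rangeRestrict).2
    ⟨π.rangeRestrict_surjective, le_antisymm hlow
      (Nat.card_le_card_of_surjective _ π.rangeRestrict_surjective)⟩).1

/-- an element of order eleven -/
noncomputable def u : Cfsg.Spor.Suz := ([Suz.Gen.b, .g, .c, .d, .e, .f].map gen).prod

theorem π_word : ∀ (w : List Suz.Gen) (i : Fin Perm.data.n),
    ((π ((w.map gen).prod) i : Fin Perm.data.n) : ℕ) = Perm.data.app (w.map idx).reverse i := by
  intro w i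
  have h : π (w.map gen).prod = ((w.map idx).map (PermData.genPerm invol_ok)).prod := by
    rw [map_list_prod, List.map_map, List.map_map]
    refine congrArg List.prod (List.map_congr_left fun x _ => ?_)
    exact rep_of invol_ok wordsFor relNums_ok rels_covered x
  rw [h]
  refine PermData.prod_apply invol_ok (w.map idx) (fun k hk => ?_) i
  obtain ⟨x, -, rfl⟩ := List.mem_map.1 hk
  exact idx_lt x

theorem π_u (i : Fin Perm.data.n) :
    ((π u i : Fin Perm.data.n) : ℕ) = elevenData.img 0 i := by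
  rw [u, π_word]
  have h := allBelow_spec eleven_u i i.2
  simp only [Bool.and_eq_true, Nat.beq_eq] at h
  exact h.1

theorem π_au (i : Fin Perm.data.n) :
    ((π (gen .a * u) i : Fin Perm.data.n) : ℕ) = elevenData.img 1 i := by
  rw [map_mul, Equiv.Perm.mul_apply, π_gen, π_u]
  have h := allBelow_spec eleven_u i i.2
  simp only [Bool.and_eq_true, Nat.beq_eq] at h
  exact h.2

theorem pow_eleven (y : Cfsg.Spor.Suz) (k : ℕ)
    (hy : ∀ i : Fin Perm.data.n, ((π y i : Fin Perm.data.n) : ℕ) = elevenData.img k i)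
    (hk : ∀ i < Perm.data.n, elevenData.app (List.replicate 11 k) i = i) : y ^ 11 = 1 := by
  refine π_injective ?_
  rw [map_pow, map_one]
  refine Equiv.ext fun i => Fin.ext ?_
  have key : ∀ (m : ℕ) (i : Fin Perm.data.n),
      (((π y ^ m) i : Fin Perm.data.n) : ℕ) = elevenData.app (List.replicate m k) i := by
    intro m
    induction m with
    | zero => intro i; rfl
    | succ m ih =>
      intro i
      rw [pow_succ, Equiv.Perm.mul_apply, ih, hy]
      rfl
  rw [key, hk i i.2]
  rfl

theorem invariant_sets (S : Set (Fin Perm.data.n)) (h0 : i₀ ∈ S)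
    (hH : ∀ h ∈ H, ∀ i ∈ S, π h i ∈ S) (hd : S.ncard ∣ Perm.data.n) :
    S = {i₀} ∨ S = Set.univ := by
  have hn : Perm.data.n = 1782 := rfl
  -- the two other orbits of `H`
  let O : Level → Set (Fin Perm.data.n) :=
    fun L => {i | ∃ h ∈ H, ∀ hb : L.base < Perm.data.n, π h ⟨L.base, hb⟩ = i}
  have hOcard : ∀ L : Level, Perm.data.okOrbit L = true → Perm.data.okClosed L = true →
      L.gens = List.range 6 → (O L).ncard = L.len ∧ i₀ ∉ O L ∨ L.base = 0 := by
    intro L h1 h2 h3
    by_cases hb0 : L.base = 0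
    · exact Or.inr hb0
    obtain ⟨hb, e⟩ := orbit_set L h1 h2 h3
    refine Or.inl ⟨?_, ?_⟩
    · rw [← e]
      congr 1
      ext i
      exact ⟨fun ⟨h, hh, he⟩ => ⟨h, hh, he hb⟩, fun ⟨h, hh, he⟩ => ⟨h, hh, fun _ => he⟩⟩
    · rintro ⟨h, hh, he⟩
      have h' := congrArg (fun z => π h⁻¹ z) (he hb)
      rw [← Equiv.Perm.mul_apply, ← map_mul, inv_mul_cancel, map_one, Equiv.Perm.one_apply,
        H_fix _ (H.inv_mem hh)] at h'
      exact hb0 (congrArg Fin.val h')
  obtain ⟨a1, a2, a3, a4⟩ := sub0_ok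
  obtain ⟨b1, b2, b3, b4⟩ := sub1_ok
  have base0 : Perm.sub0.base = 1 ∧ Perm.sub1.base = 136 := by decide +kernel
  obtain ⟨hA, hA0⟩ := (hOcard _ a1 a2 a4).resolve_right (by rw [base0.1]; decide)
  obtain ⟨hB, hB0⟩ := (hOcard _ b1 b2 b4).resolve_right (by rw [base0.2]; decide)
  rw [a3] at hA
  rw [b3] at hB
  -- they are disjoint as their sizes differ
  have hsub : ∀ L : Level, ∀ i, i ∈ O L → ∀ j, j ∈ O L → L.base < Perm.data.n →
      ∃ h ∈ H, π h i = j := by
    rintro L _ ⟨h, hh, he⟩ _ ⟨h', hh', he'⟩ hb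
    refine ⟨h' * h⁻¹, H.mul_mem hh' (H.inv_mem hh), ?_⟩
    rw [map_mul, Equiv.Perm.mul_apply, ← he hb, ← Equiv.Perm.mul_apply (π h⁻¹), ← map_mul,
      inv_mul_cancel, map_one, Equiv.Perm.one_apply, he' hb]
  have hbA : Perm.sub0.base < Perm.data.n := by rw [base0.1, hn]; decide
  have hbB : Perm.sub1.base < Perm.data.n := by rw [base0.2, hn]; decide
  have hdis : Disjoint (O Perm.sub0) (O Perm.sub1) := by
    rw [Set.disjoint_left]
    intro i hiA hiB
    have heq : O Perm.sub0 = O Perm.sub1 := by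
      apply subset_antisymm
      · intro j hj
        obtain ⟨h, hh, rfl⟩ := hsub _ i hiA j hj hbA
        obtain ⟨h', hh', he'⟩ := hiB
        exact ⟨h * h', H.mul_mem hh hh', fun hb => by
          rw [map_mul, Equiv.Perm.mul_apply, he' hb]⟩
      · intro j hj
        obtain ⟨h, hh, rfl⟩ := hsub _ i hiB j hj hbB
        obtain ⟨h', hh', he'⟩ := hiA
        exact ⟨h * h', H.mul_mem hh hh', fun hb => by
          rw [map_mul, Equiv.Perm.mul_apply, he' hb]⟩
    rw [heq, hB] at hA
    omega
  have hcover : ({i₀} ∪ O Perm.sub0 ∪ O Perm.sub1 : Set (Fin Perm.data.n)) = Set.univ := by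
    refine Set.eq_of_subset_of_ncard_le (Set.subset_univ _) ?_
    rw [Set.ncard_univ, Nat.card_fin, Set.ncard_union_eq, Set.ncard_union_eq,
      Set.ncard_singleton, hA, hB]
    · omega
    · exact Set.disjoint_singleton_left.2 hA0
    · exact Set.disjoint_union_left.2 ⟨Set.disjoint_singleton_left.2 hB0, hdis⟩
  have hin : ∀ L : Level, L.base < Perm.data.n → ∀ i, i ∈ O L → i ∈ S → O L ⊆ S := by
    intro L hb i hi hiS j hj
    obtain ⟨h, hh, rfl⟩ := hsub L i hi j hj hb
    exact hH h hh i hiS
  have hle : S.ncard ≤ 1782 := by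
    have := Set.ncard_le_ncard (Set.subset_univ S)
    rw [Set.ncard_univ, Nat.card_fin] at this
    omega
  by_cases hSA : ∃ i ∈ O Perm.sub0, i ∈ S
  · obtain ⟨i, hi, hiS⟩ := hSA
    have h1 : ({i₀} ∪ O Perm.sub0 : Set (Fin Perm.data.n)) ⊆ S :=
      Set.union_subset (Set.singleton_subset_iff.2 h0) (hin _ hbA i hi hiS)
    have h2 := Set.ncard_le_ncard h1
    rw [Set.ncard_union_eq (Set.disjoint_singleton_left.2 hA0), Set.ncard_singleton, hA] at h2
    obtain ⟨m, hm⟩ := hd
    replace hm : 1782 = S.ncard * m := hn.symm.trans hm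
    right
    refine Set.eq_of_subset_of_ncard_le (Set.subset_univ _) ?_
    rw [Set.ncard_univ, Nat.card_fin]
    rcases m with _ | _ | m
    · omega
    · omega
    · nlinarith
  by_cases hSB : ∃ i ∈ O Perm.sub1, i ∈ S
  · obtain ⟨i, hi, hiS⟩ := hSB
    have h1 : S = {i₀} ∪ O Perm.sub1 := by
      apply subset_antisymm
      · intro j hj
        rcases (hcover ▸ Set.mem_univ j : j ∈ ({i₀} ∪ O Perm.sub0 ∪ O Perm.sub1 : Set _)) with
          (h | h) | h
        · exact Or.inl h
        · exact absurd ⟨j, h, hj⟩ hSA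
        · exact Or.inr h
      · exact Set.union_subset (Set.singleton_subset_iff.2 h0) (hin _ hbB i hi hiS)
    rw [h1, Set.ncard_union_eq (Set.disjoint_singleton_left.2 hB0), Set.ncard_singleton, hB]
      at hd
    have hd' : 1 + 416 ∣ 1782 := hd.trans (dvd_of_eq hn)
    norm_num at hd'
  left
  refine Set.eq_singleton_iff_unique_mem.2 ⟨h0, fun j hj => ?_⟩
  rcases (hcover ▸ Set.mem_univ j : j ∈ ({i₀} ∪ O Perm.sub0 ∪ O Perm.sub1 : Set _)) with
    (h | h) | h
  · exact h
  · exact absurd ⟨j, h, hj⟩ hSA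
  · exact absurd ⟨j, h, hj⟩ hSB

/-- The presented Suzuki group is simple. -/
theorem isSuz : Cfsg.IsSuz Cfsg.Spor.Suz := by
  haveI := finite
  haveI : Nontrivial Cfsg.Spor.Suz :=
    Finite.one_lt_card_iff_nontrivial.1 (by rw [natCard]; norm_num)
  haveI : Fact (Nat.Prime 11) := ⟨by norm_num⟩
  refine ⟨isSimpleGroup_of_pElements 11 (by rw [natCard]; norm_num) (fun N hN hne => ?_) u
    (gen .a * u) (pow_eleven u 0 π_u ?_) (pow_eleven _ 1 π_au ?_) (fun N hN h => ?_), natCard⟩
  · have h := dvd_card_normal π π_injective i₀ H H_fix index_H transitive invariant_sets N hN hne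
    exact dvd_trans (by rw [show Perm.data.n = 1782 from rfl]; norm_num) h
  · intro i hi
    have h := allBelow_spec eleven_pow i hi
    simp only [Bool.and_eq_true, Nat.beq_eq] at h
    exact h.1
  · intro i hi
    have h := allBelow_spec eleven_pow i hi
    simp only [Bool.and_eq_true, Nat.beq_eq] at h
    exact h.2
  · exact eq_top_of_a_mem N hN (by simpa using h)

end CfsgLib.Spor.Suz
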