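import Cfsg.Agent.Lib.Spor.Suz.Order
import Cfsg.Agent.Lib.Spor.Suz.KPermData

/-!
The subgroups of index 1782 and 22880 of the presented Suzuki group, and the action on the
1782 cosets.
-/

namespace CfsgLib.Spor.Suz

open CfsgLib.PresCert Cfsg.Spor

/-- the subgroup of index 1782 -/
noncomputable def H : Subgroup Cfsg.Spor.Suz :=
  lettersGroup [Suz.Gen.a, .b, .c, .d, .e, .f] gen

/-- the subgroup of index 22880 -/
noncomputable def K : Subgroup Cfsg.Spor.Suz :=
  lettersGroup [Suz.Gen.a, .b, .c, .d, .f, .g] gen

/-- the representation on 1782 points -/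
noncomputable def π : Cfsg.Spor.Suz →* Equiv.Perm (Fin Perm.data.n) :=
  rep Perm.data idx invol_ok wordsFor relNums_ok rels_covered

theorem idx_lt (x : Suz.Gen) : idx x < Perm.data.g := by
  show idx x < 7
  cases x <;> simp [idx]

theorem π_gen (x : Suz.Gen) (i : Fin Perm.data.n) :
    ((π (gen x) i : Fin Perm.data.n) : ℕ) = Perm.data.img (idx x) i := by
  rw [π, rep_of invol_ok wordsFor relNums_ok rels_covered x]
  exact PermData.genPerm_img invol_ok (idx_lt x) i

theorem kImg_ok : ((List.range 6).all fun k => (List.range 1782).all fun i =>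
    Nat.beq (Perm.data.img ([0, 1, 2, 3, 5, 6].getD k 0) i) (KPerm.data.img k i)) = true := by
  decide +kernel

theorem kWords_ok : KPerm.data.okWords KPerm.data.g KPerm.data.words = true := by decide +kernel

theorem kLevels_ok : KPerm.data.okLevels [] KPerm.levels = true := by decide +kernel

theorem card_K : Nat.card K = 19595520 := by
  have := finite
  refine le_antisymm card_K_le.2 ?_
  have h := PermData.le_card_of_hom (D := KPerm.data) K π (fun k hk => ?_) kWords_ok KPerm.levels
    kLevels_ok
  · have e : (KPerm.levels.map Level.len).prod = 19595520 := by decide +kernel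
    rwa [e] at h
  · have hk' : k < 6 := hk
    have step : ∀ x ∈ [Suz.Gen.a, .b, .c, .d, .f, .g], idx x = [0, 1, 2, 3, 5, 6].getD k 0 →
        ∃ y ∈ K, ∀ i : Fin Perm.data.n,
          ((π y i : Fin Perm.data.n) : ℕ) = KPerm.data.img k i := fun x hx e =>
      ⟨gen x, Subgroup.subset_closure ⟨x, hx, rfl⟩, fun i => by
        rw [π_gen, e]
        exact Nat.eq_of_beq_eq_true
          (List.all_eq_true.1 (List.all_eq_true.1 kImg_ok k (List.mem_range.2 hk')) i
            (List.mem_range.2 i.2))⟩
    interval_cases k
    exacts [step .a (by simp) rfl, step .b (by simp) rfl, step .c (by simp) rfl,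
      step .d (by simp) rfl, step .f (by simp) rfl, step .g (by simp) rfl]

theorem index_K : K.index = 22880 := by
  have h := K.card_mul_index
  rw [card_K, natCard] at h
  omega

theorem index_H_le : H.index ≤ 1782 := by
  have h := (index_bound H.valid gen_sq gen_known
    (sel := allGens) (subs := [Suz.Gen.a, .b, .c, .d, .e, .f].map fun x => [x]) (d := .a)
    (by decide +kernel) (by decide +kernel)).1
  rw [wordsGroup_singletons, top_eq_lettersGroup (edges := Suz.edges) (extra := Suz.extra) allGens
    mem_allGens, Subgroup.relIndex_top_right] at h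
  exact h

theorem index_H : H.index = 1782 := by
  have h := H.card_mul_index
  rw [natCard] at h
  refine le_antisymm index_H_le ?_
  by_contra hlt
  have : Nat.card H * H.index ≤ 251596800 * 1781 := Nat.mul_le_mul card_H_le.2 (by omega)
  omega

theorem card_H : Nat.card H = 251596800 := by
  have h := H.card_mul_index
  rw [index_H, natCard] at h
  refine Nat.eq_of_mul_eq_mul_right (show 0 < 1782 by decide) (h.trans ?_)
  rfl

end CfsgLib.Spor.Suz
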