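import Cfsg.Agent.Lib.Spor.Suz.Orbits
import Cfsg.Agent.Lib.Spor.Suz.G2FourData
import Cfsg.Agent.Lib.Chev.G2J2.ChkSet

/-!
Tests matching the orbit of length 416 with the sets of root vectors of the group of type G2.
-/

set_option autoImplicit false
set_option maxRecDepth 100000

namespace CfsgLib.Spor.Suz.G2Four

open CfsgLib.PresCert CfsgLib.G2J2 Cfsg.Spor

/-- the point of the orbit attached to a set -/
def emb (k : ℕ) : ℕ := fld 11 G2FourData.emb k

/-- the image of a set under a letter -/
def letImg (x k : ℕ) : ℕ := fld 9 (G2FourData.letTab.getD x 0) k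

theorem emb_ok : (allB 416 fun k => Nat.blt (emb k) Perm.data.n &&
    allB k fun j => !Nat.beq (emb j) (emb k)) = true := by
  decide +kernel

theorem let_ok : (allB 6 fun x => allB 416 fun k =>
    Nat.beq (Perm.data.img x (emb k)) (emb (letImg x k)) && Nat.blt (letImg x k) 416) = true := by
  decide +kernel

theorem word_small : (G2FourData.genWord.all fun w => w.all fun x => Nat.blt x 6) = true := by
  decide +kernel

theorem word_ok : (allB 8 fun g => allB 416 fun k =>
    Nat.beq (Perm.data.app (G2FourData.genWord.getD g []) (emb k)) (emb (sImg g k))) = true := by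
  decide +kernel

end CfsgLib.Spor.Suz.G2Four
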