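import Cfsg.Agent.Lib.Spor.Suz.Cosets
import Cfsg.Agent.Lib.PresCert.CosetAction

/-!
The orbits of the subgroup of index 1782 on its cosets.
-/

namespace CfsgLib.Spor.Suz

open CfsgLib.PresCert Cfsg.Spor

theorem lev0_ok : Perm.data.okOrbit Perm.lev0 = true ∧ Perm.data.okClosed Perm.lev0 = true ∧
    Perm.lev0.len = 1782 ∧ Perm.lev0.base = 0 ∧ Perm.lev0.gens = List.range 7 := by
  decide +kernel

theorem sub0_ok : Perm.data.okOrbit Perm.sub0 = true ∧ Perm.data.okClosed Perm.sub0 = true ∧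
    Perm.sub0.len = 1365 ∧ Perm.sub0.gens = List.range 6 := by
  decide +kernel

theorem sub1_ok : Perm.data.okOrbit Perm.sub1 = true ∧ Perm.data.okClosed Perm.sub1 = true ∧
    Perm.sub1.len = 416 ∧ Perm.sub1.gens = List.range 6 := by
  decide +kernel

theorem fix_zero : ((List.range 6).all fun k => Nat.beq (Perm.data.img k 0) 0) = true := by
  decide +kernel

/-- the base point -/
noncomputable def i₀ : Fin Perm.data.n := ⟨0, (by decide +kernel : 0 < Perm.data.n)⟩

theorem H_fix : ∀ k ∈ H, π k i₀ = i₀ := by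
  suffices h : H ≤ (MulAction.stabilizer (Equiv.Perm (Fin Perm.data.n)) i₀).comap π from
    fun k hk => h hk
  rw [H, lettersGroup, Subgroup.closure_le]
  rintro _ ⟨x, hx, rfl⟩
  show π (gen x) i₀ = i₀
  apply Fin.ext
  rw [π_gen]
  have h6 : idx x < 6 := by
    fin_cases hx <;> decide
  exact Nat.eq_of_beq_eq_true (List.all_eq_true.1 fix_zero _ (List.mem_range.2 h6))

theorem transitive (i : Fin Perm.data.n) : ∃ g, π g i₀ = i := by
  obtain ⟨h1, h2, h3, h4, h5⟩ := lev0_ok
  have hn : Perm.data.g = 7 := rfl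
  have e := PermData.ncard_orbit (PermData.interp invol_ok) Perm.lev0 h1 h2
    (fun k hk => by rw [h5] at hk; exact hn ▸ List.mem_range.1 hk) _ rfl
    (by rw [h4]; exact (by decide +kernel : 0 < Perm.data.n))
  rw [h3] at e
  have hn2 : Perm.data.n = 1782 := rfl
  have huniv : {j | ∃ σ ∈ Subgroup.closure
      {σ | ∃ k ∈ Perm.lev0.gens, (PermData.interp invol_ok).gen k = σ},
      σ ⟨Perm.lev0.base, by rw [h4]; exact (by decide +kernel : 0 < Perm.data.n)⟩ = j} =
      Set.univ := Set.eq_of_subset_of_ncard_le (Set.subset_univ _) (by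
        rw [e, Set.ncard_univ, Nat.card_eq_fintype_card, Fintype.card_fin, hn2])
  obtain ⟨σ, hσ, rfl⟩ := (huniv ▸ Set.mem_univ i : i ∈ {j | ∃ σ ∈ Subgroup.closure
      {σ | ∃ k ∈ Perm.lev0.gens, (PermData.interp invol_ok).gen k = σ},
      σ ⟨Perm.lev0.base, by rw [h4]; exact (by decide +kernel : 0 < Perm.data.n)⟩ = j})
  have hr : σ ∈ π.range := by
    refine (Subgroup.closure_le _).2 ?_ hσ
    rintro _ ⟨k, hk, rfl⟩
    rw [h5] at hk
    have hk' : k < 7 := List.mem_range.1 hk
    have hx : ∀ x : Suz.Gen, idx x = k → (PermData.interp invol_ok).gen k ∈ π.range :=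
      fun x e => ⟨gen x, by rw [π, rep_of invol_ok wordsFor relNums_ok rels_covered x, e]; rfl⟩
    interval_cases k
    exacts [hx .a rfl, hx .b rfl, hx .c rfl, hx .d rfl, hx .e rfl, hx .f rfl, hx .g rfl]
  obtain ⟨g, rfl⟩ := hr
  exact ⟨g, congrArg _ (Fin.ext h4.symm)⟩

theorem orbit_set (L : Level) (h1 : Perm.data.okOrbit L = true) (h2 : Perm.data.okClosed L = true)
    (hg : L.gens = List.range 6) : ∃ hb : L.base < Perm.data.n,
      Set.ncard {i | ∃ k ∈ H, π k ⟨L.base, hb⟩ = i} = L.len := by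
  have hb : L.base < Perm.data.n := by
    simp only [PermData.okOrbit, Bool.and_eq_true, Nat.blt_eq] at h1
    exact h1.1.1.1.2
  refine ⟨hb, ?_⟩
  have e := PermData.ncard_orbit (PermData.interp invol_ok) L h1 h2
    (fun k hk => by
      rw [hg] at hk
      exact lt_trans (List.mem_range.1 hk) (by decide +kernel : 6 < Perm.data.g))
    (H.map π) ?_ hb
  · rw [← e]
    congr 1
    ext i
    simp only [Set.mem_setOf_eq, Subgroup.mem_map]
    constructor
    · rintro ⟨k, hk, rfl⟩
      exact ⟨π k, ⟨k, hk, rfl⟩, rfl⟩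
    · rintro ⟨_, ⟨k, hk, rfl⟩, rfl⟩
      exact ⟨k, hk, rfl⟩
  · rw [H, lettersGroup, MonoidHom.map_closure]
    congr 1
    ext σ
    have hπ : ∀ x, π (gen x) = (PermData.interp invol_ok).gen (idx x) := fun x =>
      rep_of invol_ok wordsFor relNums_ok rels_covered x
    constructor
    · rintro ⟨_, ⟨x, hx, rfl⟩, rfl⟩
      refine ⟨idx x, ?_, (hπ x).symm⟩
      rw [hg]
      fin_cases hx <;> decide
    · rintro ⟨k, hk, rfl⟩
      rw [hg] at hk
      have hk' : k < 6 := List.mem_range.1 hk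
      have hx : ∀ x ∈ [Suz.Gen.a, .b, .c, .d, .e, .f], idx x = k →
          (PermData.interp invol_ok).gen k ∈
            π '' {q | ∃ x ∈ [Suz.Gen.a, .b, .c, .d, .e, .f], gen x = q} :=
        fun x hx e => ⟨gen x, ⟨x, hx, rfl⟩, e ▸ hπ x⟩
      interval_cases k
      exacts [hx .a (by simp) rfl, hx .b (by simp) rfl, hx .c (by simp) rfl, hx .d (by simp) rfl,
        hx .e (by simp) rfl, hx .f (by simp) rfl]

theorem orbit_H (L : Level) (h1 : Perm.data.okOrbit L = true) (h2 : Perm.data.okClosed L = true)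
    (hg : L.gens = List.range 6) :
    ∃ q : Cfsg.Spor.Suz ⧸ H, (MulAction.orbit H q).ncard = L.len := by
  obtain ⟨hb, e⟩ := orbit_set L h1 h2 hg
  exact exists_orbit_ncard π H i₀ H_fix index_H transitive ⟨L.base, hb⟩ L.len e

end CfsgLib.Spor.Suz
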