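import Cfsg.Agent.Lib.Spor.Suz.Words
import Cfsg.Agent.Lib.Spor.Suz.PermData

/-!
The tables are involutions.
-/

namespace CfsgLib.Spor.Suz

open CfsgLib.PresCert Cfsg.Spor

theorem invol_ok : Perm.data.okInvol = true := by decide +kernel

end CfsgLib.Spor.Suz
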