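import Cfsg.Agent.Lib.Spor.Suz.Words
import Cfsg.Agent.Lib.Spor.Suz.PermData

/-!
The orbits along the base.
-/

namespace CfsgLib.Spor.Suz

open CfsgLib.PresCert Cfsg.Spor

theorem words_ok : Perm.data.okWords Perm.data.g Perm.data.words = true := by decide +kernel

theorem levels_ok : Perm.data.okLevels [] Perm.levels = true := by decide +kernel

end CfsgLib.Spor.Suz
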