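import Cfsg.Agent.Lib.Spor.Suz.Words
import Cfsg.Agent.Lib.Spor.Suz.HCert
import Cfsg.Agent.Lib.Spor.Suz.S2Cert
import Cfsg.Agent.Lib.Spor.Suz.S3Cert
import Cfsg.Agent.Lib.Spor.Suz.S4bCert
import Cfsg.Agent.Lib.Spor.Suz.S6Cert
import Cfsg.Agent.Lib.Spor.Suz.S7Cert
import Cfsg.Agent.Lib.Spor.Suz.K2Cert
import Cfsg.Agent.Lib.Spor.Suz.K3Cert
import Cfsg.Agent.Lib.Spor.Suz.PermInvol
import Cfsg.Agent.Lib.Spor.Suz.PermLevels
import Cfsg.Agent.Lib.Spor.Suz.PermRels0
import Cfsg.Agent.Lib.Spor.Suz.PermRels1

/-!
The order of the presented Suzuki group and of two of its subgroups.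
-/

namespace CfsgLib.Spor.Suz

open CfsgLib.PresCert Cfsg.Spor

theorem card_a : CardLE (lettersGroup [Suz.Gen.a] gen) (2 * 1) :=
  step_bound S7.valid [.a] [] (by simp) (by decide +kernel) (by decide +kernel)
    (by simpa [lettersGroup] using CardLE.bot)

theorem card_ab : CardLE (lettersGroup [Suz.Gen.a, .b] gen) 10 :=
  step_bound S6.valid [.a, .b] [.a] (by simp) (by decide +kernel) (by decide +kernel) card_a

theorem card_abcd : CardLE (lettersGroup [Suz.Gen.a, .b, .c, .d] gen) 2160 :=
  step_bound S4b.valid [.a, .b, .c, .d] [.a, .b] (by simp) (by decide +kernel) (by decide +kernel)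
    card_ab

theorem card_abcde : CardLE (lettersGroup [Suz.Gen.a, .b, .c, .d, .e] gen) 604800 :=
  step_bound S3.valid [.a, .b, .c, .d, .e] [.a, .b, .c, .d] (by simp) (by decide +kernel)
    (by decide +kernel) card_abcd

theorem card_H_le : CardLE (lettersGroup [Suz.Gen.a, .b, .c, .d, .e, .f] gen) 251596800 :=
  step_bound S2.valid [.a, .b, .c, .d, .e, .f] [.a, .b, .c, .d, .e] (by simp) (by decide +kernel)
    (by decide +kernel) card_abcde

theorem card_abcdf : CardLE (lettersGroup [Suz.Gen.a, .b, .c, .d, .f] gen) 120960 :=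
  step_bound K3.valid [.a, .b, .c, .d, .f] [.a, .b, .c, .d] (by simp) (by decide +kernel)
    (by decide +kernel) card_abcd

theorem card_K_le : CardLE (lettersGroup [Suz.Gen.a, .b, .c, .d, .f, .g] gen) 19595520 :=
  step_bound K2.valid [.a, .b, .c, .d, .f, .g] [.a, .b, .c, .d, .f] (by simp) (by decide +kernel)
    (by decide +kernel) card_abcdf

theorem card_all_le : CardLE (⊤ : Subgroup Cfsg.Spor.Suz) 448345497600 :=
  top_eq_lettersGroup (edges := Suz.edges) (extra := Suz.extra) allGens mem_allGens ▸
    step_bound H.valid allGens [.a, .b, .c, .d, .e, .f] (fun x _ => mem_allGens x)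
      (by decide +kernel) (by decide +kernel) card_H_le

theorem finite : Finite Cfsg.Spor.Suz := by
  have h := card_all_le.1
  rw [Subgroup.card_top] at h
  exact Nat.finite_of_card_ne_zero h

/-- all numeric relators -/
def relNums : List (List Nat) := relNums0 ++ relNums1

theorem relNums_ok : Perm.data.okNums relNums = true := by
  rw [PermData.okNums, relNums, List.all_append]
  exact Bool.and_eq_true_iff.2 ⟨relNums0_ok, relNums1_ok⟩

theorem rels_covered : PermData.okCovered idx relNums known = true := by decide +kernel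

/-- The presented Suzuki group has order `448345497600`. -/
theorem natCard : Nat.card Cfsg.Spor.Suz = 448345497600 := by
  have := finite
  refine le_antisymm ?_ ?_
  · have h := card_all_le.2
    rwa [Subgroup.card_top] at h
  · have h := le_card (edges := Suz.edges) (extra := Suz.extra) invol_ok wordsFor relNums_ok rels_covered
      (fun k hk => ?_) words_ok Perm.levels levels_ok
    · have e : (Perm.levels.map Level.len).prod = 448345497600 := by decide +kernel
      rwa [e] at h
    · have hk' : k < 7 := hk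
      interval_cases k
      exacts [⟨.a, rfl⟩, ⟨.b, rfl⟩, ⟨.c, rfl⟩, ⟨.d, rfl⟩, ⟨.e, rfl⟩, ⟨.f, rfl⟩, ⟨.g, rfl⟩]

end CfsgLib.Spor.Suz
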