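import Cfsg.Agent.Lib.PresCert.Presented
import Cfsg.Prelude.Def_Spor_Suz

/-!
Relator words of the presented Suzuki group and letters used for its subgroups.
-/

namespace CfsgLib.Spor.Suz

open CfsgLib.PresCert Cfsg.Spor

/-- the further relators as words -/
def extraW : List (List Suz.Gen) :=
  [[.a, .d, .c, .d, .c, .d, .c, .d, .c], [.a, .g, .f, .g, .f],
   (List.replicate 5 [.a, .b, .c, .f]).flatten,
   (List.replicate 5 [.b, .f, .g]).flatten,
   (List.replicate 3 ((List.replicate 5 [.b, .c, .d, .c, .d]).flatten ++ [.e])).flatten]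

/-- numbering of the generators -/
def idx : Suz.Gen → ℕ
  | .a => 0 | .b => 1 | .c => 2 | .d => 3 | .e => 4 | .f => 5 | .g => 6

/-- all letters -/
def allGens : List Suz.Gen := [.a, .b, .c, .d, .e, .f, .g]

theorem mem_allGens : ∀ x : Suz.Gen, x ∈ allGens := by intro x; cases x <;> simp [allGens]

theorem mem_nodes : ∀ x : Suz.Gen, x ∈ coxNodes Suz.edges := by
  intro x; cases x <;> decide

theorem wordsFor : WordsFor Suz.extra extraW := by
  intro Q _ f hf
  have hi : ∀ x, (f x)⁻¹ = f x := fun x => inv_eq_of_mul_eq_one_left (hf x)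
  simp [Suz.extra, extraW, Suz.a, Suz.b, Suz.c, Suz.d, Suz.e, Suz.f, Suz.g, pow_succ,
    List.replicate_succ, hi, mul_assoc]

/-- all relator words -/
def known : List (List Suz.Gen) := knownWords Suz.edges extraW

/-- a generator of the presented group -/
abbrev gen : Suz.Gen → Cfsg.Spor.Suz := pgen Suz.edges Suz.extra

theorem gen_known : ∀ w ∈ known, (w.map gen).prod = 1 := pgen_known mem_nodes wordsFor

theorem gen_sq (x : Suz.Gen) : gen x * gen x = 1 := pgen_sq mem_nodes x

theorem step_bound {C : Cert} {js : List Cert.Just} (V : Cert.Valid C js) (sel sub : List Suz.Gen)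
    {b : ℕ} (hsub : ∀ x ∈ sub, x ∈ sel)
    (hr : okRels C sel known .a = true) (hs : okSubs C sel (sub.map fun x => [x]) .a = true)
    (hK : CardLE (lettersGroup sub gen) b) : CardLE (lettersGroup sel gen) (C.n * b) := by
  have h := index_bound V gen_sq gen_known hr hs
  rw [wordsGroup_singletons] at h
  refine hK.step (Subgroup.closure_mono ?_) h
  rintro _ ⟨x, hx, rfl⟩
  exact ⟨x, hsub x hx, rfl⟩

end CfsgLib.Spor.Suz
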